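/-
The Hall-Higman bound for the `p`-length in terms of the exponent of a Sylow `p`-subgroup.
-/
import Cfsg.Agent.Lib.HallHigman.Reduction
import Cfsg.Agent.Lib.HallHigman.Section
import Cfsg.Agent.Lib.Core.FrattiniFaithful
import Cfsg.Agent.Lib.Core.PLength
import Cfsg.Agent.Lib.PGroups.Basic

set_option autoImplicit false

open Cfsg

namespace Cfsg.Agent.Lib.HallHigman.Exponent

open Module Cfsg.Agent.Lib.HallHigman.Core Cfsg.Agent.Lib.HallHigman.Reduction
  Cfsg.Agent.Lib.HallHigman.Section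
  Cfsg.Agent.Lib.Core.Basic Cfsg.Agent.Lib.Core.PSolvable Cfsg.Agent.Lib.Core.PLength
  Cfsg.Agent.Lib.Core.FrattiniFaithful
open scoped commutatorElement

universe u v w

/-- Hall-Higman's Theorem B over an arbitrary field. -/
theorem thmB_rep {F : Type u} [Field F] {V : Type v} [AddCommGroup V] [Module F V]
    [FiniteDimensional F V] {H : Type w} [Group H] [Finite H] {p : ℕ} [hp : Fact p.Prime] [CharP F p]
    (hsol : IsPSolvable p H) (hOp : pCore p H = ⊥) (ρ : H →* End F V) (hρ : Function.Injective ρ)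
    (x : H) (n : ℕ) (hord : orderOf x = p ^ (n + 1)) (r : ℕ) (hr : (ρ x - 1) ^ r = 0) :
    p ^ (n + 1) ≤ r ∨ ∃ (q n₀ m : ℕ) (Q : Subgroup H), q.Prime ∧ q ≠ p ∧ IsPGroup q Q ∧
      ¬ IsMulCommutative Q ∧ 1 ≤ n₀ ∧ n₀ ≤ n + 1 ∧ 1 ≤ m ∧ p ^ n₀ - 1 = q ^ m ∧
      p ^ (n + 1 - n₀) * (p ^ n₀ - 1) ≤ r := by
  let K := AlgebraicClosure F
  let b := Module.End.baseChangeHom F K V
  let ρ' : H →* End K (TensorProduct F K V) := (b.toMonoidHom).comp ρ
  have hρ' : Function.Injective ρ' := by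
    intro h₁ h₂ h
    exact hρ (LinearMap.baseChangeHom_injective F V K h)
  have hr' : (ρ' x - 1) ^ r = 0 := by
    have h1 := congrArg b hr
    rw [map_pow, map_sub, map_one, map_zero] at h1
    exact h1
  exact thmB_group hsol hOp ρ' hρ' x n hord r hr'

/-- The faithful module of `G / O_p(G)` when `O_{p'}(G) = 1`. -/
theorem exists_faithful_module {G : Type u} [Group G] [Finite G] {p : ℕ} [hp : Fact p.Prime]
    (hS : IsPSolvable p G) (hred : pPrimeCore p G = ⊥) :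
    ∃ (V : Type u) (_ : AddCommGroup V) (_ : Module (ZMod p) V) (_ : FiniteDimensional (ZMod p) V)
      (ρ : (G ⧸ pCore p G) →* End (ZMod p) V) (π : pCore p G → V),
      Function.Injective ρ ∧ (∀ a b, π (a * b) = π a + π b) ∧ Function.Surjective π ∧
      (∀ (g : G) (t t' : pCore p G), t'.1 = g * t.1 * g⁻¹ → ρ (g : G ⧸ pCore p G) (π t) = π t') ∧
      (∀ (x : G) (m : ℕ), (∀ t ∈ pCore p G, (t * x) ^ m = x ^ m) →
        ∑ i ∈ Finset.range m, (ρ (x : G ⧸ pCore p G)) ^ i = 0) := by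
  classical
  set T := pCore p G with hT
  have hTp : IsPGroup p T := pCore_isPGroup
  haveI hTn : T.Normal := inferInstance
  set Φ := (frattini T).map T.subtype with hΦ
  haveI hΦn : Φ.Normal := ConjAct.normal_of_characteristic_of_normal
  have hΦT : Φ ≤ T := Subgroup.map_subtype_le _
  have hcomm : ∀ a ∈ T, ∀ b ∈ T, a * b * a⁻¹ * b⁻¹ ∈ Φ := by
    intro a ha b hb
    have h1 := Cfsg.Agent.Lib.PGroups.Basic.commutator_le_frattini hTp
    have h2 : ⁅(⟨a, ha⟩ : T), (⟨b, hb⟩ : T)⁆ ∈ frattini T :=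
      h1 (Subgroup.commutator_mem_commutator (by trivial) (by trivial))
    exact ⟨_, h2, rfl⟩
  have hexp : ∀ a ∈ T, a ^ p ∈ Φ := by
    intro a ha
    exact ⟨_, Cfsg.Agent.Lib.PGroups.Basic.pow_mem_frattini hTp (⟨a, ha⟩ : T), rfl⟩
  obtain ⟨V, i1, i2, i3, ρ₁, π, hπadd, hπsurj, hπ0, hπact⟩ := exists_section_module (p := p) Φ T hΦT hcomm hexp
  have hπ1 : π 1 = 0 := by
    have := hπadd 1 1
    rw [mul_one] at this
    simpa using this
  have hπinv : ∀ a, π a⁻¹ = - π a := by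
    intro a
    have := hπadd a⁻¹ a
    rw [inv_mul_cancel, hπ1] at this
    exact (eq_neg_of_add_eq_zero_left this.symm)
  have hρ₁ : ∀ t ∈ T, ρ₁ t = 1 := by
    intro t₀ ht₀
    ext v
    obtain ⟨t, rfl⟩ := hπsurj v
    have hmem : t₀ * t.1 * t₀⁻¹ ∈ T := T.mul_mem (T.mul_mem ht₀ t.2) (T.inv_mem ht₀)
    rw [hπact t₀ t ⟨_, hmem⟩ rfl, Module.End.one_apply]
    have e : (⟨_, hmem⟩ : T) = ⟨t₀, ht₀⟩ * t * ⟨t₀, ht₀⟩⁻¹ := Subtype.ext rfl
    rw [e, hπadd, hπadd, hπinv]
    abel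
  let ρ : (G ⧸ T) →* End (ZMod p) V := QuotientGroup.lift T ρ₁ hρ₁
  have hρmk : ∀ g : G, ρ (g : G ⧸ T) = ρ₁ g := fun g => rfl
  have hker : ∀ h : G, ρ₁ h = 1 → h ∈ T := by
    intro h hh
    apply mem_pCore_of_commutator_mem_frattini hS hred
    intro t ht
    have hmem : h * t * h⁻¹ ∈ T := hTn.conj_mem t ht h
    have h1 := hπact h ⟨t, ht⟩ ⟨_, hmem⟩ rfl
    rw [hh, Module.End.one_apply] at h1
    have h2 : π (⟨_, hmem⟩ * (⟨t, ht⟩ : T)⁻¹) = 0 := by
      rw [hπadd, hπinv, ← h1]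
      abel
    exact (hπ0 _).mp h2
  have hinj : Function.Injective ρ := by
    intro a b hab
    obtain ⟨a, rfl⟩ := QuotientGroup.mk_surjective a
    obtain ⟨b, rfl⟩ := QuotientGroup.mk_surjective b
    rw [hρmk, hρmk] at hab
    rw [QuotientGroup.eq]
    apply hker
    rw [map_mul, ← hab, ← map_mul, inv_mul_cancel, map_one]
  have hnorm : ∀ (x : G) (t : T) (m : ℕ) (w : T), w.1 = (t.1 * x) ^ m * (x ^ m)⁻¹ →
      π w = ∑ i ∈ Finset.range m, ((ρ₁ x) ^ i) (π t) := by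
    intro x t m
    induction m with
    | zero =>
      intro w hw
      have : w = 1 := Subtype.ext (by simpa using hw)
      rw [this, hπ1]
      simp
    | succ m ih =>
      intro w hw
      have hmem : (t.1 * x) ^ m * (x ^ m)⁻¹ ∈ T := by
        have h1 : ((t.1 * x : G) : G ⧸ T) = (x : G ⧸ T) := by
          rw [QuotientGroup.eq]
          have e : (t.1 * x)⁻¹ * x = x⁻¹ * t.1⁻¹ * x := by group
          rw [e]
          have := hTn.conj_mem t.1⁻¹ (T.inv_mem t.2) x⁻¹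
          simpa using this
        have h2 : (((t.1 * x) ^ m : G) : G ⧸ T) = ((x ^ m : G) : G ⧸ T) := by
          rw [QuotientGroup.mk_pow, QuotientGroup.mk_pow, h1]
        rw [QuotientGroup.eq] at h2
        have h3 := hTn.conj_mem _ h2 ((t.1 * x) ^ m)
        have e : (t.1 * x) ^ m * ((((t.1 * x) ^ m))⁻¹ * x ^ m) * ((t.1 * x) ^ m)⁻¹
            = x ^ m * ((t.1 * x) ^ m)⁻¹ := by group
        rw [e] at h3
        have h4 := T.inv_mem h3
        simpa using h4
      have hih := ih ⟨_, hmem⟩ rfl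
      have hmem2 : x * ((t.1 * x) ^ m * (x ^ m)⁻¹) * x⁻¹ ∈ T := hTn.conj_mem _ hmem x
      have h5 := hπact x ⟨_, hmem⟩ ⟨_, hmem2⟩ rfl
      have e : w = t * ⟨_, hmem2⟩ := by
        apply Subtype.ext
        rw [hw]
        change _ = t.1 * (x * ((t.1 * x) ^ m * (x ^ m)⁻¹) * x⁻¹)
        rw [pow_succ', pow_succ']
        group
      rw [e, hπadd, ← h5, hih, Finset.sum_range_succ', pow_zero, Module.End.one_apply, map_sum,
        add_comm]
      congr 1
      refine Finset.sum_congr rfl (fun i _ => ?_)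
      rw [pow_succ', Module.End.mul_apply]
  refine ⟨V, i1, i2, i3, ρ, π, hinj, hπadd, hπsurj, ?_, ?_⟩
  · intro g t t' h
    exact hπact g t t' h
  · intro x m hm
    ext v
    obtain ⟨t, rfl⟩ := hπsurj v
    have h1 := hnorm x t m 1 (by
      rw [hm t.1 t.2]
      simp)
    rw [hπ1] at h1
    rw [hρmk]
    simp only [LinearMap.sum_apply, LinearMap.zero_apply]
    exact h1.symm

/-- No exceptional prime powers: all the relevant Sylow subgroups are abelian. -/
def NoExc (p : ℕ) (G : Type u) [Group G] : Prop :=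
  ∀ q n₀ m : ℕ, q.Prime → q ≠ p → 1 ≤ n₀ → 1 ≤ m → p ^ n₀ - 1 = q ^ m →
    ∀ Q : Subgroup G, IsPGroup q Q → IsMulCommutative Q

section

variable {p : ℕ}

/-- Subgroups of commutative Sylow subgroups. -/
theorem comm_of_sylow {G : Type u} [Group G] [Finite G] {q : ℕ} [Fact q.Prime]
    (h : ∀ S : Sylow q G, IsMulCommutative (S : Subgroup G)) (Q : Subgroup G) (hQ : IsPGroup q Q) :
    IsMulCommutative Q := by
  obtain ⟨P, hP⟩ := hQ.exists_le_sylow
  have hS := h P
  constructor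
  refine ⟨fun a b => Subtype.ext ?_⟩
  have := hS.is_comm.comm (⟨a.1, hP a.2⟩ : (P : Subgroup G)) ⟨b.1, hP b.2⟩
  have h5 : a.1 * b.1 = b.1 * a.1 := congrArg Subtype.val this
  exact h5

theorem NoExc.of_surjective {G H : Type u} [Group G] [Group H] [Finite G] [Finite H] (f : G →* H)
    (hf : Function.Surjective f) (h : NoExc p G) : NoExc p H := by
  intro q n₀ m hq hqp h1 h2 h3 Q hQ
  haveI : Fact q.Prime := ⟨hq⟩
  refine comm_of_sylow (fun P => ?_) Q hQ
  obtain ⟨S, rfl⟩ := Sylow.mapSurjective_surjective hf q P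
  have hS := h q n₀ m hq hqp h1 h2 h3 (S : Subgroup G) S.isPGroup'
  constructor
  refine ⟨fun a b => Subtype.ext ?_⟩
  obtain ⟨a', ha', hae⟩ := a.2
  obtain ⟨b', hb', hbe⟩ := b.2
  have h4 := hS.is_comm.comm (⟨a', ha'⟩ : (S : Subgroup G)) ⟨b', hb'⟩
  have h5 : a' * b' = b' * a' := congrArg Subtype.val h4
  change a.1 * b.1 = b.1 * a.1
  rw [← hae, ← hbe]
  change f a' * f b' = f b' * f a'
  rw [← map_mul, ← map_mul, h5]

theorem noExc_of_sylow {G : Type u} [Group G] [Finite G]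
    (h : ∀ (q : ℕ) [Fact q.Prime], q ≠ p → ∀ Q : Sylow q G, IsMulCommutative (Q : Subgroup G)) :
    NoExc p G := by
  intro q n₀ m hq hqp _ _ _ Q hQ
  haveI : Fact q.Prime := ⟨hq⟩
  exact comm_of_sylow (h q hqp) Q hQ

/-- For odd primes only `q = 2` and Fermat primes matter. -/
theorem noExc_of_odd {G : Type u} [Group G] [Finite G] [hp : Fact p.Prime] (hp2 : p ≠ 2)
    (h : (¬ ∃ k : ℕ, p = 2 ^ k + 1) ∨ ∀ S : Sylow 2 G, IsMulCommutative (S : Subgroup G)) :
    NoExc p G := by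
  intro q n₀ m hq hqp h1 h2 h3 Q hQ
  have hpp : p.Prime := hp.out
  have hodd : Odd p := hpp.odd_of_ne_two hp2
  have hpow : 1 ≤ p ^ n₀ := Nat.one_le_pow _ _ hpp.pos
  have h4 : 2 ∣ q ^ m := by
    rw [← h3]
    have h5 : Odd (p ^ n₀) := hodd.pow
    obtain ⟨c, hc⟩ := h5
    omega
  have h5 : q = 2 := ((Nat.prime_dvd_prime_iff_eq Nat.prime_two hq).mp (Nat.prime_two.dvd_of_dvd_pow h4)).symm
  subst h5
  rcases h with h | h
  · exfalso
    apply h
    have h6 : p - 1 ∣ p ^ n₀ - 1 := by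
      have := Nat.sub_dvd_pow_sub_pow p 1 n₀
      simpa using this
    rw [h3] at h6
    obtain ⟨k, -, hk⟩ := (Nat.dvd_prime_pow Nat.prime_two).mp h6
    refine ⟨k, ?_⟩
    have := hpp.pos
    omega
  · haveI : Fact (Nat.Prime 2) := ⟨Nat.prime_two⟩
    exact comm_of_sylow h Q hQ

theorem exponent_of_surjective {G H : Type u} [Group G] [Group H] [Finite G] [Fact p.Prime] {e : ℕ}
    (f : G →* H) (hf : Function.Surjective f)
    (hexp : ∀ (P : Sylow p G), ∀ x ∈ (P : Subgroup G), x ^ p ^ e = 1) :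
    ∀ (P : Sylow p H), ∀ x ∈ (P : Subgroup H), x ^ p ^ e = 1 := by
  intro P x hx
  obtain ⟨S, rfl⟩ := Sylow.mapSurjective_surjective hf p P
  obtain ⟨x', hx', rfl⟩ := hx
  change f x' ^ p ^ e = 1
  rw [← map_pow, hexp S x' hx', map_one]

/-- **Hall-Higman**: without exceptions, the `p`-length is bounded by the exponent. -/
theorem pLength_le_exponent [hp : Fact p.Prime] (e : ℕ) :
    ∀ (G : Type u) [Group G] [Finite G], IsPSolvable p G → NoExc p G →
      (∀ (P : Sylow p G), ∀ x ∈ (P : Subgroup G), x ^ p ^ e = 1) → PLengthLE p e G := by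
  have hpp : p.Prime := hp.out
  induction e with
  | zero =>
    intro G _ _ hS hN hexp
    rw [pLengthLE_zero_iff]
    rw [Nat.coprime_comm, Nat.Prime.coprime_iff_not_dvd hpp]
    intro hd
    obtain ⟨x, hx⟩ := exists_prime_orderOf_dvd_card' (G := G) p hd
    obtain ⟨S, hS'⟩ := (IsPGroup.of_card (n := 1) (G := Subgroup.zpowers x)
      (by rw [Nat.card_zpowers, hx, pow_one])).exists_le_sylow
    have h1 := hexp S x (hS' (Subgroup.mem_zpowers x))
    have h2 : orderOf x = 1 := by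
      simpa using orderOf_dvd_of_pow_eq_one h1
    rw [hx] at h2
    exact hpp.one_lt.ne' h2
  | succ e ih =>
    intro G _ _ hS hN hexp
    let N := pPrimeCore p G
    let f := QuotientGroup.mk' N
    have hf : Function.Surjective f := QuotientGroup.mk'_surjective N
    have hS₁ : IsPSolvable p (G ⧸ N) := isPSolvable_of_surjective f hf hS
    have hred : pPrimeCore p (G ⧸ N) = ⊥ := pPrimeCore_quotient_eq_bot
    have hexp₁ := exponent_of_surjective f hf hexp
    have hN₁ : NoExc p (G ⧸ N) := hN.of_surjective f hf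
    let T := pCore p (G ⧸ N)
    let f₂ := QuotientGroup.mk' T
    have hf₂ : Function.Surjective f₂ := QuotientGroup.mk'_surjective T
    have hS₂ : IsPSolvable p ((G ⧸ N) ⧸ T) := isPSolvable_of_surjective f₂ hf₂ hS₁
    have hN₂ : NoExc p ((G ⧸ N) ⧸ T) := hN₁.of_surjective f₂ hf₂
    have hOp : pCore p ((G ⧸ N) ⧸ T) = ⊥ := pCore_quotient_eq_bot
    obtain ⟨V, i1, i2, i3, ρ, π, hinj, -, -, -, hnorm⟩ := exists_faithful_module hS₁ hred
    have hexp₂ : ∀ (P : Sylow p ((G ⧸ N) ⧸ T)), ∀ x ∈ (P : Subgroup ((G ⧸ N) ⧸ T)), x ^ p ^ e = 1 := by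
      intro P x hx
      obtain ⟨S, rfl⟩ := Sylow.mapSurjective_surjective hf₂ p P
      obtain ⟨x', hx', rfl⟩ := hx
      have hm : ∀ t ∈ T, (t * x') ^ p ^ (e + 1) = x' ^ p ^ (e + 1) := by
        intro t ht
        have ht' : t ∈ (S : Subgroup (G ⧸ N)) := pCore_le_sylow S ht
        rw [hexp₁ S _ ((S : Subgroup (G ⧸ N)).mul_mem ht' hx'), hexp₁ S x' hx']
      have h0 := hnorm x' _ hm
      rw [sum_pow_eq (K := ZMod p) (p := p)] at h0
      set xb : (G ⧸ N) ⧸ T := (x' : (G ⧸ N) ⧸ T) with hxb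
      change xb ^ p ^ e = 1
      have hxb1 : xb ^ p ^ (e + 1) = 1 := by
        rw [hxb, ← QuotientGroup.mk_pow, hexp₁ S x' hx']
        rfl
      obtain ⟨k, hk, hord⟩ := (Nat.dvd_prime_pow hpp).mp (orderOf_dvd_of_pow_eq_one hxb1)
      by_cases hke : k ≤ e
      · rw [← orderOf_dvd_iff_pow_eq_one, hord]
        exact pow_dvd_pow p hke
      exfalso
      have hke' : k = e + 1 := by omega
      rw [hke'] at hord
      have hpos : 0 < p ^ (e + 1) := pow_pos hpp.pos _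
      rcases thmB_rep hS₂ hOp ρ hinj xb e hord _ h0 with h | ⟨q, n₀, m, Q, hq, hqp, hQ, hnc, h1, h2, h3, h4, -⟩
      · omega
      · exact hnc (hN₂ q n₀ m hq hqp h1 h3 h4 Q hQ)
    have hIH : PLengthLE p e ((G ⧸ N) ⧸ T) := ih _ hS₂ hN₂ hexp₂
    have h1 : PLengthLE p (1 + e) (G ⧸ N) := by
      refine PLengthLE.of_ker f₂ hf₂ ?_ hIH
      rw [QuotientGroup.ker_mk']
      exact pLengthLE_one_of_isPGroup pCore_isPGroup
    have h2 : PLengthLE p (0 + (1 + e)) G := by
      refine PLengthLE.of_ker f hf ?_ h1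
      rw [QuotientGroup.ker_mk']
      exact pLengthLE_zero_iff.mpr pPrimeCore_coprime
    rwa [zero_add, add_comm] at h2

end

end Cfsg.Agent.Lib.HallHigman.Exponent
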