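/-
Hall-Higman with two missing eigenvalues: an element `x` of prime order `r` normalising a `q`-group
`Q` on a module over an algebraically closed field, with neither `1` nor `μ ≠ 1` as an eigenvalue,
centralises the image of `Q`.
-/
import Cfsg.Agent.Lib.HallHigman.FixedPoints

set_option autoImplicit false

open Cfsg

namespace Cfsg.Agent.Lib.HallHigman.TwoMissing

open Module Cfsg.Agent.Lib.HallHigman.Irr Cfsg.Agent.Lib.HallHigman.Core
  Cfsg.Agent.Lib.HallHigman.FrobFree Cfsg.Agent.Lib.HallHigman.Critical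
  Cfsg.Agent.Lib.HallHigman.Jordan Cfsg.Agent.Lib.HallHigman.Numeric
  Cfsg.Agent.Lib.HallHigman.DegPower Cfsg.Agent.Lib.HallHigman.Clifford
  Cfsg.Agent.Lib.HallHigman.Semisimple
open scoped commutatorElement

universe u v w

/-- The numerical core with two zeros. -/
theorem numeric_two {ι : Type*} [Fintype ι] (a : ι → ℕ) (P D : ℕ) (hP : Fintype.card ι = P)
    (hD : ∑ i, a i = D) (hD1 : 1 ≤ D) (h : P * ∑ i, a i ^ 2 + 1 ≤ P + D ^ 2) (k k' : ι)
    (hk : a k = 0) (hk' : a k' = 0) (hkk : k ≠ k') : D = 1 := by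
  classical
  rcases numeric_zero a P D hP hD hD1 h k hk with h1 | h1
  · exact h1
  exfalso
  have hsq : ∀ i, a i ≤ a i ^ 2 := fun i => Nat.le_self_pow (by norm_num) (a i)
  subst h1
  -- `∑ a² ≤ D`
  have h2 : ∑ i, a i ^ 2 ≤ D := by
    by_contra hlt
    have h3 : D + 1 ≤ ∑ i, a i ^ 2 := by omega
    have h4 := Nat.mul_le_mul_left (D + 1) h3
    nlinarith
  have h3 : ∑ i, a i ^ 2 = ∑ i, a i := by
    apply le_antisymm
    · rw [hD]
      exact h2
    · exact Finset.sum_le_sum fun i _ => hsq i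
  have h4 : ∀ i, a i ^ 2 = a i := by
    have := (Finset.sum_eq_sum_iff_of_le (s := Finset.univ) (f := a) (g := fun i => a i ^ 2)
      (fun i _ => hsq i)).mp h3.symm
    exact fun i => (this i (Finset.mem_univ i)).symm
  have h5 : ∀ i, a i ≤ 1 := by
    intro i
    have := h4 i
    by_contra hlt
    have h6 : 2 ≤ a i := by omega
    nlinarith
  have h6 : ∑ i, a i = ∑ i ∈ (Finset.univ.erase k).erase k', a i := by
    rw [← Finset.add_sum_erase _ _ (Finset.mem_univ k), hk, zero_add,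
      ← Finset.add_sum_erase (Finset.univ.erase k) _ (Finset.mem_erase.mpr ⟨hkk.symm, Finset.mem_univ k'⟩),
      hk', zero_add]
  have h7 : ∑ i ∈ (Finset.univ.erase k).erase k', a i ≤ ((Finset.univ.erase k).erase k').card := by
    calc _ ≤ ∑ _i ∈ (Finset.univ.erase k).erase k', 1 := Finset.sum_le_sum fun i _ => h5 i
      _ = _ := by simp
  have h8 : ((Finset.univ.erase k).erase k').card = D + 1 - 2 := by
    rw [Finset.card_erase_of_mem (Finset.mem_erase.mpr ⟨hkk.symm, Finset.mem_univ k'⟩),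
      Finset.card_erase_of_mem (Finset.mem_univ k), Finset.card_univ, hP]
    omega
  omega

section count

variable {K : Type u} [Field K] {U : Type v} [AddCommGroup U] [Module K U] [FiniteDimensional K U]

/-- An endomorphism of finite order with the count and two missing eigenvalues has degree one. -/
theorem semisimple_two [IsAlgClosed K] (X : End K U) (r : ℕ) (hr : (r : K) ≠ 0) (hX : X ^ r = 1)
    (hfree : ∀ u, X u = u → u = 0) {μ₀ : K} (hμ₀ : μ₀ ≠ 1) (hμ₀r : μ₀ ^ r = 1)
    (hfree₂ : ∀ u, X u = μ₀ • u → u = 0) (hD : 0 < finrank K U)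
    (hC : r * finrank K (centralizerSub X) + 1 ≤ r + finrank K U ^ 2) :
    finrank K U = 1 := by
  classical
  have hr0 : 0 < r := Nat.pos_of_ne_zero (fun h => hr (by simp [h]))
  haveI : NeZero r := ⟨hr0.ne'⟩
  haveI : NeZero (r : K) := ⟨hr⟩
  obtain ⟨ζ, hζ⟩ := HasEnoughRootsOfUnity.exists_primitiveRoot K r
  obtain ⟨b, μ, hb⟩ := exists_eigenbasis X r hr hX
  have hcount := eigen_centralizer_count X b μ hb
  have hbne : ∀ i, b i ≠ 0 := fun i => b.ne_zero i
  have hμ : ∀ i, μ i ^ r = 1 := by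
    intro i
    have h1 : ∀ n : ℕ, (X ^ n) (b i) = μ i ^ n • b i := by
      intro n
      induction n with
      | zero => simp
      | succ n ih =>
        rw [pow_succ, Module.End.mul_apply, hb, map_smul, ih, smul_smul, pow_succ]
        rw [mul_comm]
    have h2 := h1 r
    rw [hX, Module.End.one_apply] at h2
    have h3 : (μ i ^ r - 1) • b i = 0 := by
      rw [sub_smul, one_smul, ← h2, sub_self]
    exact sub_eq_zero.mp ((smul_eq_zero.mp h3).resolve_right (hbne i))
  let R := Polynomial.nthRootsFinset r (1 : K)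
  have hRmem : ∀ z, z ∈ R ↔ z ^ r = 1 := fun z => Polynomial.mem_nthRootsFinset hr0 1
  have hRcard : Fintype.card R = r := by
    rw [Fintype.card_coe]
    exact hζ.card_nthRootsFinset
  let a : R → ℕ := fun z => ((Finset.univ : Finset (Fin (finrank K U))).filter (fun i => μ i = z.1)).card
  have hsum : ∑ z, a z = finrank K U := by
    have h1 := Finset.card_eq_sum_card_fiberwise (s := (Finset.univ : Finset (Fin (finrank K U))))
      (t := R) (f := μ) (fun i _ => (hRmem _).mpr (hμ i))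
    rw [Finset.card_univ, Fintype.card_fin] at h1
    rw [h1, ← Finset.sum_coe_sort R]
  have hsq : ∑ z, a z ^ 2 =
      (Finset.filter (fun s : Fin (finrank K U) × Fin (finrank K U) => μ s.1 = μ s.2)
        Finset.univ).card := by
    have h1 := Finset.card_eq_sum_card_fiberwise
      (s := Finset.filter (fun s : Fin (finrank K U) × Fin (finrank K U) => μ s.1 = μ s.2)
        Finset.univ) (t := R) (f := fun s => μ s.1) (fun s _ => (hRmem _).mpr (hμ s.1))
    rw [h1, ← Finset.sum_coe_sort R]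
    refine Finset.sum_congr rfl (fun z _ => ?_)
    rw [sq, ← Finset.card_product]
    apply congrArg
    ext s
    simp only [Finset.mem_product, Finset.mem_filter, Finset.mem_univ, true_and]
    constructor
    · rintro ⟨h2, h3⟩
      exact ⟨by rw [h2, h3], h2⟩
    · rintro ⟨h2, h3⟩
      exact ⟨h3, by rw [← h2, h3]⟩
  have hone : a ⟨1, (hRmem 1).mpr (one_pow r)⟩ = 0 := by
    apply Finset.card_eq_zero.mpr
    apply Finset.filter_eq_empty_iff.mpr
    intro i _ hi
    apply hbne i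
    apply hfree
    rw [hb, hi, one_smul]
  have hmu0 : a ⟨μ₀, (hRmem μ₀).mpr hμ₀r⟩ = 0 := by
    apply Finset.card_eq_zero.mpr
    apply Finset.filter_eq_empty_iff.mpr
    intro i _ hi
    apply hbne i
    apply hfree₂
    rw [hb, hi]
  have hle : r * ∑ z, a z ^ 2 + 1 ≤ r + finrank K U ^ 2 := by
    rw [hsq]
    have := Nat.mul_le_mul_left r hcount
    omega
  refine numeric_two a r _ hRcard hsum hD hle _ _ hone hmu0 ?_
  intro h
  exact hμ₀ (congrArg Subtype.val h).symm

end count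

section crit

variable {K : Type u} [Field K] {V : Type v} [AddCommGroup V] [Module K V] {H : Type w} [Group H]

/-- The semisimple critical case with two missing eigenvalues is impossible. -/
theorem core_two [IsAlgClosed K] [Finite H] [FiniteDimensional K V] {q r : ℕ} [Fact q.Prime]
    [hrp : Fact r.Prime] (hq : (q : K) ≠ 0) (hr : (r : K) ≠ 0) (hqr : q ≠ r) (ρ : H →* End K V)
    (Q : Subgroup H) (hQ : IsPGroup q Q) (x : H) (hx : x ∈ Subgroup.normalizer (Q : Set H))
    (hord : orderOf x = r) (hCZ : ∀ g ∈ Q, g * x = x * g → ∀ h ∈ Q, g * h = h * g)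
    (hQY : ⁅Q, Subgroup.zpowers x⁆ = Q) {U₁ : Submodule K V} (hU₁ : IsIrr ρ Q U₁)
    (hnt : ∃ g ∈ Q, ∃ u ∈ U₁, ρ g u ≠ u) (hfree : ∀ v, ρ x v = v → v = 0)
    {μ₀ : K} (hμ₀ : μ₀ ≠ 1) (hμ₀r : μ₀ ^ r = 1) (hfree₂ : ∀ v, ρ x v = μ₀ • v → v = 0) : False := by
  classical
  have hrpp : r.Prime := hrp.out
  have hqq : q.Prime := Fact.out
  have hxr : x ^ r = 1 := by
    rw [← hord, pow_orderOf_eq_one]
  have hxn : ∀ i : ℕ, x ^ i ∈ Subgroup.normalizer (Q : Set H) := fun i => Subgroup.pow_mem _ hx i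
  let S : ℕ → Prop := fun i => HomNZ ρ Q (tw ρ (x ^ i) U₁) U₁
  have hrefl : ∀ {W : Submodule K V}, W ≠ ⊥ → HomNZ ρ Q W W := by
    intro W hW
    obtain ⟨a, ha, ha0⟩ := Submodule.exists_mem_ne_zero_of_ne_bot hW
    exact ⟨1, fun a ha => ha, fun g _ a _ => rfl, a, ha, ha0⟩
  have hS0 : S 0 := by
    change HomNZ ρ Q (tw ρ (x ^ 0) U₁) U₁
    rw [pow_zero, tw_one]
    exact hrefl hU₁.ne_bot
  have hSadd : ∀ i j, S i → S j → S (i + j) := by
    intro i j hi hj
    change HomNZ ρ Q (tw ρ (x ^ (i + j)) U₁) U₁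
    rw [pow_add, tw_mul]
    exact HomNZ.trans (hU₁.tw (hxn i)) (hj.tw (hxn i)) hi
  have hSmul : ∀ i k, S i → S (k * i) := by
    intro i k hi
    induction k with
    | zero => simpa using hS0
    | succ k ih =>
      rw [add_mul, one_mul]
      exact hSadd _ _ ih hi
  have hSper : ∀ e w, S (e + r * w) → S e := by
    intro e w h
    change HomNZ ρ Q (tw ρ (x ^ (e + r * w)) U₁) U₁ at h
    rwa [pow_add, pow_mul, hxr, one_pow, mul_one] at h
  have hSone : ∀ i, 0 < i → i < r → S i → S 1 := by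
    intro i hi0 hir hi
    have hcop : i.Coprime r := by
      rw [Nat.coprime_comm, Nat.Prime.coprime_iff_not_dvd hrpp]
      exact fun h => absurd (Nat.le_of_dvd hi0 h) (by omega)
    obtain ⟨k, -, hk⟩ := Nat.exists_mul_mod_eq_one_of_coprime hcop hrpp.one_lt
    have h1 := hSmul i k hi
    have h2 : k * i = 1 + r * (i * k / r) := by
      rw [mul_comm k i]
      conv_lhs => rw [← Nat.mod_add_div (i * k) r, hk]
    rw [h2] at h1
    exact hSper _ _ h1
  obtain ⟨u₁, hu₁, hu₁0⟩ := Submodule.exists_mem_ne_zero_of_ne_bot hU₁.ne_bot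
  have hS1 : S 1 := by
    by_contra hS1
    have hind : iSupIndep (fun i : Fin r => tw ρ (x ^ (i : ℕ)) U₁) := by
      apply iSupIndep_of_no_hom (ρ := ρ) (Q := Q)
      · intro i
        exact hU₁.tw (hxn _)
      · rintro i j hij hhom
        have hjr : (j : ℕ) ≤ r := j.2.le
        have h1 := hhom.tw (hxn (r - j))
        rw [← tw_mul, ← tw_mul, ← pow_add, ← pow_add, Nat.sub_add_cancel hjr, hxr, tw_one] at h1
        have h2 : S (r - j + i) := h1
        by_cases hlt : (i : ℕ) < j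
        · exact hS1 (hSone _ (by omega) (by omega) h2)
        · have hne : (i : ℕ) ≠ j := fun h => hij (Fin.ext h)
          have e : r - j + i = (i - j) + r * 1 := by omega
          rw [e] at h2
          exact hS1 (hSone _ (by omega) (by omega) (hSper _ _ h2))
    have hfixed : (ρ x - 1) * ∑ i ∈ Finset.range r, (ρ x) ^ i = 0 := by
      rw [mul_geom_sum, ← map_pow, hxr, map_one, sub_self]
    have h1 := congrArg (fun f : End K V => f u₁) hfixed
    simp only [Module.End.mul_apply, LinearMap.sub_apply, Module.End.one_apply,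
      LinearMap.zero_apply, sub_eq_zero] at h1
    have h2 := hfree _ h1
    rw [LinearMap.sum_apply, Finset.sum_range] at h2
    have h3 := eq_zero_of_sum_eq_zero hind (fun i : Fin r => (ρ x ^ (i : ℕ)) u₁)
      (fun i => by
        rw [← map_pow]
        exact apply_mem_tw hu₁) h2 ⟨0, hrpp.pos⟩
    simp only [pow_zero, Module.End.one_apply] at h3
    exact hu₁0 h3
  have hS1' : HomNZ ρ Q (tw ρ x U₁) U₁ := by
    have h1 : HomNZ ρ Q (tw ρ (x ^ 1) U₁) U₁ := hS1
    rwa [pow_one] at h1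
  obtain ⟨U, hU, hxU, hU₁U⟩ := exists_invariant_irr hx hU₁ hS1'
  have hfin : IsOfFinOrder x := isOfFinOrder_of_finite x
  have hzU : ∀ c ∈ Subgroup.zpowers x, ∀ u ∈ U, ρ c u ∈ U := by
    intro c hc u hu
    obtain ⟨j, rfl⟩ := hfin.mem_powers_iff_mem_zpowers.mpr hc
    simp only
    rw [map_pow]
    induction j with
    | zero => simpa using hu
    | succ j ih =>
      rw [pow_succ', Module.End.mul_apply]
      exact hxU _ (ih (Subgroup.pow_mem _ (Subgroup.mem_zpowers x) _))
  have hzn : ∀ c ∈ Subgroup.zpowers x, c ∈ Subgroup.normalizer (Q : Set H) := fun c hc =>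
    (Subgroup.zpowers_le.mpr hx) hc
  have hF : ∀ c ∈ Subgroup.zpowers x, c ≠ 1 → ∀ g ∈ Q,
      (∀ h ∈ Q, ∀ u ∈ U, ρ (g⁻¹ * (c * g * c⁻¹)) (ρ h u) = ρ h (ρ (g⁻¹ * (c * g * c⁻¹)) u)) →
      ∀ h ∈ Q, ∀ u ∈ U, ρ g (ρ h u) = ρ h (ρ g u) := by
    intro c hc hc1 g hg hcomm
    have hord' : orderOf x = r ^ (0 + 1) := by
      simpa using hord
    obtain ⟨l, hl⟩ := exists_pow_eq (p := r) (n := 0) hord' hc hc1 hfin
    simp only [pow_zero, pow_one] at hl
    refine central_of_fixed (q := q) ρ Q hQ hU (hzn c hc) (hzU c hc)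
      (hzU _ (Subgroup.inv_mem _ hc)) l hl ?_ hCZ hg hcomm
    rw [hord]
    exact ((Nat.coprime_primes hqq hrpp).mpr hqr).symm
  obtain ⟨X, hX, hcount⟩ := critical_count_sub hq ρ Q hQ hU hx hxU hF
  rw [hord] at hcount
  have hXp : ∀ (j : ℕ) (v : U), (((X ^ j) v : U) : V) = (ρ x ^ j) v.1 := by
    intro j
    induction j with
    | zero =>
      intro v
      simp
    | succ j ih =>
      intro v
      rw [pow_succ', pow_succ', Module.End.mul_apply, Module.End.mul_apply, hX, ih]
  have hXr : X ^ r = 1 := by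
    ext v
    rw [hXp, ← map_pow, hxr, map_one]
    rfl
  have hXfree : ∀ v, X v = v → v = 0 := by
    intro v hv
    apply Subtype.ext
    apply hfree
    rw [← hX, hv]
  haveI hNT : Nontrivial U := Submodule.nontrivial_iff_ne_bot.mpr hU.ne_bot
  have hD : 0 < finrank K U := Module.finrank_pos
  -- the dimension is not one
  have hD1 : finrank K U ≠ 1 := by
    intro hD1
    obtain ⟨g, hg, u, hu, hgu⟩ := hnt
    let F : Subgroup H :=
      { carrier := {g | ∀ u ∈ U, ρ g u = u}
        mul_mem' := by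
          intro a b ha hb u hu
          rw [map_mul, Module.End.mul_apply, hb u hu, ha u hu]
        one_mem' := by
          intro u _
          simp
        inv_mem' := by
          intro a ha u hu
          have h1 := ha u hu
          calc ρ a⁻¹ u = ρ a⁻¹ (ρ a u) := by rw [h1]
            _ = u := rho_inv_apply ρ a u }
    have hle : ⁅Q, Subgroup.zpowers x⁆ ≤ F := by
      rw [Subgroup.commutator_le]
      intro a ha z hz v hv
      rw [commutatorElement_def, map_mul, map_mul, map_mul]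
      simp only [Module.End.mul_apply]
      have hv1 := hzU _ (Subgroup.inv_mem _ hz) v hv
      rw [comm_on_line hD1 (hzU z hz) (hU.inv _ (Q.inv_mem ha)) _ hv1, rho_apply_inv, rho_apply_inv]
    rw [hQY] at hle
    have h1 : ∀ g ∈ Q, ∀ u ∈ U, ρ g u = u := fun g hg => hle hg
    obtain ⟨f, h0, h2, h3⟩ := hU₁U
    have hinj := hU₁.inj_of_hom h2 h3
    apply hgu
    have h4 : f (ρ g u - u) = 0 := by
      rw [map_sub, h2 g hg u hu, h1 g hg _ (h0 u hu), sub_self]
    have h5 := hinj _ (U₁.sub_mem (hU₁.inv g hg u hu) hu) h4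
    exact sub_eq_zero.mp h5
  have hXfree₂ : ∀ v, X v = μ₀ • v → v = 0 := by
    intro v hv
    apply Subtype.ext
    apply hfree₂
    rw [← hX, hv]
    rfl
  exact hD1 (TwoMissing.semisimple_two X r hr hXr hXfree hμ₀ hμ₀r hXfree₂ hD hcount)

end crit

section rep

variable {K : Type u} [Field K] {V : Type v} [AddCommGroup V] [Module K V] [FiniteDimensional K V]
  {H : Type w} [Group H] [Finite H]

/-- The faithful form: `x` centralises `Q`. -/
theorem le_centralizer_of_two_missing [IsAlgClosed K] {q r : ℕ} [Fact q.Prime] [hrp : Fact r.Prime]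
    (hq : (q : K) ≠ 0) (hr : (r : K) ≠ 0) (hqr : q ≠ r) (ρ : H →* End K V) (Q : Subgroup H)
    (hQ : IsPGroup q Q) (x : H) (hx : x ∈ Subgroup.normalizer (Q : Set H)) (hord : orderOf x = r)
    (hfaith : ∀ g ∈ Q, ρ g = 1 → g = 1) (hfree : ∀ v, ρ x v = v → v = 0)
    {μ₀ : K} (hμ₀ : μ₀ ≠ 1) (hμ₀r : μ₀ ^ r = 1) (hfree₂ : ∀ v, ρ x v = μ₀ • v → v = 0) :
    Q ≤ Subgroup.centralizer (Subgroup.zpowers x : Set H) := by
  classical
  by_contra hne
  have hrpp : r.Prime := hrp.out
  have hqq : q.Prime := Fact.out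
  let Y := Subgroup.zpowers x
  have hYn : Y ≤ Subgroup.normalizer (Y : Set H) := Subgroup.le_normalizer
  have hYQ : Y ≤ Subgroup.normalizer (Q : Set H) := Subgroup.zpowers_le.mpr hx
  have hcop : (Nat.card Y).Coprime (Nat.card Q) := by
    obtain ⟨k, hk⟩ := IsPGroup.iff_card.mp hQ
    rw [Nat.card_zpowers, hord, hk]
    exact Nat.Coprime.pow_right _ ((Nat.coprime_primes hrpp hqq).mpr hqr.symm)
  have hsolv : Group.IsSolvable Y := by
    infer_instance
  obtain ⟨Q₀, hQ₀, hYQ₀, hQY, hQbot, hZ⟩ :=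
    Reduction.exists_minimal Y Y Q le_rfl hYn hQ hYQ hcop hsolv hne
  have hQ₀p : IsPGroup q Q₀ := hQ.to_le hQ₀
  obtain ⟨g₀, hg₀⟩ := (Subgroup.ne_bot_iff_exists_ne_one (H := Q₀)).mp hQbot
  have hρg₀ : ρ g₀.1 ≠ 1 := fun h => hg₀ (Subtype.ext (hfaith _ (hQ₀ g₀.2) h))
  obtain ⟨U₁, hU₁, hnt⟩ := Reduction.exists_irr_nontrivial hq ρ Q₀ hQ₀p g₀.2 hρg₀
  have hCZ : ∀ g ∈ Q₀, g * x = x * g → ∀ h ∈ Q₀, g * h = h * g := by
    intro g hg hgx h hh
    refine hZ g hg (fun z hz => ?_) h hh
    obtain ⟨k, rfl⟩ := Subgroup.mem_zpowers_iff.mp hz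
    have h1 : Commute g x := hgx
    exact (h1.zpow_right k).eq
  exact core_two hq hr hqr ρ Q₀ hQ₀p x (hYQ₀ (Subgroup.mem_zpowers x)) hord hCZ hQY hU₁ hnt hfree
    hμ₀ hμ₀r hfree₂

/-- The general form: `x` acts trivially on the image of `Q`. -/
theorem conj_eq_of_two_missing [IsAlgClosed K] {q r : ℕ} [Fact q.Prime] [hrp : Fact r.Prime]
    (hq : (q : K) ≠ 0) (hr : (r : K) ≠ 0) (hqr : q ≠ r) (ρ : H →* End K V) (Q : Subgroup H)
    (hQ : IsPGroup q Q) (x : H) (hx : x ∈ Subgroup.normalizer (Q : Set H)) (hord : orderOf x = r)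
    (hfree : ∀ v, ρ x v = v → v = 0)
    {μ₀ : K} (hμ₀ : μ₀ ≠ 1) (hμ₀r : μ₀ ^ r = 1) (hfree₂ : ∀ v, ρ x v = μ₀ • v → v = 0) :
    ∀ g ∈ Q, ρ (x * g * x⁻¹) = ρ g := by
  classical
  have hrpp : r.Prime := hrp.out
  let N : Subgroup H := ρ.ker
  haveI hNn : N.Normal := inferInstanceAs ρ.ker.Normal
  have hNmem : ∀ g, g ∈ N ↔ ρ g = 1 := fun g => MonoidHom.mem_ker
  let ρ' : (H ⧸ N) →* End K V := QuotientGroup.lift N ρ (fun g hg => (hNmem g).mp hg)
  have hρ' : ∀ g : H, ρ' (g : H ⧸ N) = ρ g := fun g => rfl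
  have hinj : Function.Injective ρ' := by
    intro a b hab
    obtain ⟨a, rfl⟩ := QuotientGroup.mk_surjective a
    obtain ⟨b, rfl⟩ := QuotientGroup.mk_surjective b
    rw [hρ', hρ'] at hab
    rw [QuotientGroup.eq, hNmem, map_mul, ← hab, ← map_mul, inv_mul_cancel, map_one]
  let xb : H ⧸ N := (x : H ⧸ N)
  let f := QuotientGroup.mk' N
  let Qb : Subgroup (H ⧸ N) := Q.map f
  by_cases hW : Subsingleton V
  · intro g _
    ext v
    exact Subsingleton.elim _ _
  rw [not_subsingleton_iff_nontrivial] at hW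
  have hxb1 : xb ≠ 1 := by
    intro h
    have h1 : ρ x = 1 := by
      rw [← hρ', show (x : H ⧸ N) = xb from rfl, h, map_one]
    obtain ⟨v, hv⟩ := exists_ne (0 : V)
    exact hv (hfree v (by rw [h1, Module.End.one_apply]))
  have hxbr : xb ^ r = 1 := by
    change ((x : H ⧸ N)) ^ r = 1
    rw [← QuotientGroup.mk_pow, ← hord, pow_orderOf_eq_one]
    rfl
  have hordb : orderOf xb = r := orderOf_eq_prime hxbr hxb1
  have hQb : xb ∈ Subgroup.normalizer (Qb : Set (H ⧸ N)) := by
    rw [Subgroup.mem_normalizer_iff]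
    intro h
    constructor
    · rintro ⟨k, hk, rfl⟩
      exact ⟨x * k * x⁻¹, (Subgroup.mem_normalizer_iff.mp hx k).mp hk, by simp [f, xb]⟩
    · rintro ⟨k, hk, hke⟩
      refine ⟨x⁻¹ * k * x, ?_, ?_⟩
      · have := (Subgroup.mem_normalizer_iff.mp (Subgroup.inv_mem _ hx) k).mp hk
        simpa using this
      · simp only [map_mul, map_inv] at hke ⊢
        have hx' : f x = xb := rfl
        rw [hx', hke]
        group
  have hcent := le_centralizer_of_two_missing hq hr hqr ρ' Qb (hQ.map f) xb hQb hordb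
    (fun g _ hg => hinj (by rw [hg, map_one])) hfree hμ₀ hμ₀r hfree₂
  intro g hg
  have h1 : (g : H ⧸ N) ∈ Qb := ⟨g, hg, rfl⟩
  have h2 := Subgroup.mem_centralizer_iff.mp (hcent h1) xb (Subgroup.mem_zpowers xb)
  have h3 : ρ' (xb * (g : H ⧸ N)) = ρ' ((g : H ⧸ N) * xb) := by
    rw [h2]
  have h4 : ρ (x * g) = ρ (g * x) := h3
  calc ρ (x * g * x⁻¹) = ρ (x * g) * ρ x⁻¹ := map_mul _ _ _
    _ = ρ (g * x) * ρ x⁻¹ := by rw [h4]
    _ = ρ (g * x * x⁻¹) := (map_mul _ _ _).symm
    _ = ρ g := by rw [mul_inv_cancel_right]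

end rep

section eigen

variable {K : Type u} [Field K] {V : Type v} [AddCommGroup V] [Module K V] [FiniteDimensional K V]
  {H : Type w} [Group H] [Finite H]

theorem pow_apply_eigen {T : End K V} {v : V} {c : K} (h : T v = c • v) (n : ℕ) :
    (T ^ n) v = c ^ n • v := by
  induction n with
  | zero => simp
  | succ n ih =>
    rw [pow_succ, Module.End.mul_apply, h, map_smul, ih, smul_smul, pow_succ]
    rw [mul_comm]

/-- Over an algebraically closed field: `z` central on `Q⟨x⟩`, fixed point free; `x` and `x ^ a * z ^ b`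
fixed point free. Then `x` acts trivially on the image of `Q`. -/
theorem conj_eq_of_three_fpf_closed [IsAlgClosed K] {q r : ℕ} [Fact q.Prime] [hrp : Fact r.Prime]
    (hq : (q : K) ≠ 0) (hr : (r : K) ≠ 0) (hqr : q ≠ r) (ρ : H →* End K V) (Q : Subgroup H)
    (hQ : IsPGroup q Q) (x z : H) (hx : x ∈ Subgroup.normalizer (Q : Set H)) (hord : orderOf x = r)
    (hzr : z ^ r = 1) (hxz : Commute x z) (hzQ : ∀ g ∈ Q, Commute g z)
    (hfx : ∀ v, ρ x v = v → v = 0) (hfz : ∀ v, ρ z v = v → v = 0) (a b : ℕ) (ha : a.Coprime r)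
    (hb : b.Coprime r) (hfa : ∀ v, ρ (x ^ a * z ^ b) v = v → v = 0) :
    ∀ g ∈ Q, ρ (x * g * x⁻¹) = ρ g := by
  classical
  have hrpp : r.Prime := hrp.out
  have hX : (ρ z) ^ r = 1 := by
    rw [← map_pow, hzr, map_one]
  obtain ⟨bs, μ, hbs⟩ := exists_eigenbasis (ρ z) r hr hX
  intro g hg
  apply bs.ext
  intro i
  set lam := μ i with hlam
  have hv0 : bs i ≠ 0 := bs.ne_zero i
  have hlamr : lam ^ r = 1 := by
    have h2 := pow_apply_eigen (hbs i) r
    rw [hX, Module.End.one_apply] at h2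
    have h3 : (lam ^ r - 1) • bs i = 0 := by
      rw [sub_smul, one_smul, ← h2, sub_self]
    exact sub_eq_zero.mp ((smul_eq_zero.mp h3).resolve_right hv0)
  have hlam1 : lam ≠ 1 := by
    intro h
    apply hv0
    apply hfz
    rw [hbs, ← hlam, h, one_smul]
  have hlam0 : lam ≠ 0 := by
    intro h
    rw [h, zero_pow hrpp.ne_zero] at hlamr
    exact zero_ne_one hlamr
  -- the eigenspace
  let E : Submodule K V := LinearMap.ker (ρ z - lam • (1 : End K V))
  have hEmem : ∀ v, v ∈ E ↔ ρ z v = lam • v := by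
    intro v
    simp [E, LinearMap.mem_ker, sub_eq_zero]
  let H0 : Subgroup H := Subgroup.centralizer ({z} : Set H)
  have hH0mem : ∀ h, h ∈ H0 ↔ Commute h z := by
    intro h
    simp only [H0, Subgroup.mem_centralizer_singleton_iff]
    exact ⟨fun h' => h', fun h' => h'⟩
  have hEinv : ∀ h : H0, ∀ v ∈ E, ρ h.1 v ∈ E := by
    intro h v hv
    rw [hEmem] at hv ⊢
    have h1 : ρ z (ρ h.1 v) = ρ h.1 (ρ z v) := by
      rw [← Module.End.mul_apply, ← Module.End.mul_apply, ← map_mul, ← map_mul,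
        ((hH0mem h.1).mp h.2).eq]
    rw [h1, hv, map_smul]
  let σ : H0 →* End K E :=
    { toFun := fun h => (ρ h.1).restrict (hEinv h)
      map_one' := by
        ext v
        simp
      map_mul' := by
        intro a b
        ext v
        simp }
  have hσ : ∀ (h : H0) (v : E), ((σ h v : E) : V) = ρ h.1 v.1 := fun h v => rfl
  have hxH0 : x ∈ H0 := (hH0mem x).mpr hxz
  let x0 : H0 := ⟨x, hxH0⟩
  have hord0 : orderOf x0 = r := by
    rw [Subgroup.orderOf_mk, hord]
  let Q0 : Subgroup H0 := Q.subgroupOf H0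
  have hQ0 : IsPGroup q Q0 := hQ.comap_subtype
  have hx0 : x0 ∈ Subgroup.normalizer (Q0 : Set H0) := by
    rw [Subgroup.mem_normalizer_iff]
    intro h
    exact Subgroup.mem_normalizer_iff.mp hx h.1
  have hfree0 : ∀ v : E, σ x0 v = v → v = 0 := by
    intro v hv
    apply Subtype.ext
    apply hfx
    exact congrArg Subtype.val hv
  obtain ⟨a', -, ha'⟩ := Nat.exists_mul_mod_eq_one_of_coprime ha hrpp.one_lt
  set c0 : K := (lam ^ b)⁻¹ with hc0
  have hc0r : c0 ^ r = 1 := by
    rw [hc0, inv_pow, ← pow_mul, mul_comm, pow_mul, hlamr, one_pow, inv_one]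
  have hμa : (c0 ^ a') ^ a = c0 := by
    rw [← pow_mul, mul_comm a' a, ← Nat.mod_add_div (a * a') r, ha', pow_add, pow_mul, hc0r, one_pow,
      mul_one, pow_one]
  have hμ₀ : c0 ^ a' ≠ 1 := by
    intro h
    rw [h, one_pow] at hμa
    have h1 : lam ^ b = 1 := by
      rw [hc0] at hμa
      exact inv_eq_one.mp hμa.symm
    have h2 : orderOf lam ∣ Nat.gcd b r :=
      Nat.dvd_gcd (orderOf_dvd_of_pow_eq_one h1) (orderOf_dvd_of_pow_eq_one hlamr)
    rw [hb, Nat.dvd_one, orderOf_eq_one_iff] at h2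
    exact hlam1 h2
  have hμ₀r : (c0 ^ a') ^ r = 1 := by
    rw [← pow_mul, mul_comm, pow_mul, hc0r, one_pow]
  have hfree₂ : ∀ v : E, σ x0 v = (c0 ^ a') • v → v = 0 := by
    intro v hv
    apply Subtype.ext
    apply hfa
    have h1 : ρ x v.1 = (c0 ^ a') • v.1 := congrArg Subtype.val hv
    have h2 : ρ z v.1 = lam • v.1 := (hEmem v.1).mp v.2
    rw [map_mul, Module.End.mul_apply, map_pow, map_pow, pow_apply_eigen h2, map_smul,
      pow_apply_eigen h1, hμa, smul_smul, hc0, mul_inv_cancel₀ (pow_ne_zero _ hlam0), one_smul]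
  have hgH0 : g ∈ H0 := (hH0mem g).mpr (hzQ g hg)
  have hmain := conj_eq_of_two_missing hq hr hqr σ Q0 hQ0 x0 hx0 hord0 hfree0 hμ₀ hμ₀r hfree₂
    (⟨g, hgH0⟩ : H0) hg
  have hvE : bs i ∈ E := (hEmem _).mpr (hbs i)
  have h3 := congrArg (fun f : End K E => ((f ⟨bs i, hvE⟩ : E) : V)) hmain
  exact h3

end eigen

section field

variable {F : Type u} [Field F] {W : Type v} [AddCommGroup W] [Module F W] [FiniteDimensional F W]
  {H : Type w} [Group H] [Finite H]

/-- **Hall-Higman with three fixed point free elements** in a rank two group: let `z` centralise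
`Q ⟨x⟩`, with `x`, `z` and `x ^ a * z ^ b` (`a, b` prime to the prime `r`) fixed point free. Then `x`
centralises the image of the `q`-group `Q`. -/
theorem conj_eq_of_three_fpf {q r : ℕ} [Fact q.Prime] [hrp : Fact r.Prime]
    (hq : (q : F) ≠ 0) (hr : (r : F) ≠ 0) (hqr : q ≠ r) (ρ : H →* End F W) (Q : Subgroup H)
    (hQ : IsPGroup q Q) (x z : H) (hx : x ∈ Subgroup.normalizer (Q : Set H)) (hord : orderOf x = r)
    (hzr : z ^ r = 1) (hxz : Commute x z) (hzQ : ∀ g ∈ Q, Commute g z)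
    (hfx : ∀ v, ρ x v = v → v = 0) (hfz : ∀ v, ρ z v = v → v = 0) (a b : ℕ) (ha : a.Coprime r)
    (hb : b.Coprime r) (hfa : ∀ v, ρ (x ^ a * z ^ b) v = v → v = 0) :
    ∀ g ∈ Q, ρ (x * g * x⁻¹) = ρ g := by
  classical
  let K := AlgebraicClosure F
  let bc := Module.End.baseChangeHom F K W
  let ρ' : H →* End K (TensorProduct F K W) := (bc.toMonoidHom).comp ρ
  have hq' : (q : K) ≠ 0 := by
    have := (algebraMap F K).injective.ne hq
    simpa using this
  have hr' : (r : K) ≠ 0 := by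
    have := (algebraMap F K).injective.ne hr
    simpa using this
  have hfree' : ∀ h : H, (∀ v, ρ h v = v → v = 0) → ∀ v, ρ' h v = v → v = 0 := by
    intro h hfree
    have hinj : Function.Injective (ρ h - 1 : End F W) := by
      rw [← LinearMap.ker_eq_bot, LinearMap.ker_eq_bot']
      intro v hv
      apply hfree
      have h1 : ρ h v - v = 0 := hv
      exact sub_eq_zero.mp h1
    have hinj' : Function.Injective ((ρ h - 1 : End F W).baseChange K) := by
      rw [LinearMap.baseChange_eq_ltensor]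
      exact Module.Flat.lTensor_preserves_injective_linearMap _ hinj
    intro v hv
    apply hinj'
    rw [map_zero]
    have h1 : (ρ h - 1 : End F W).baseChange K = ρ' h - 1 := by
      change bc (ρ h - 1) = bc (ρ h) - 1
      rw [map_sub, map_one]
    rw [h1, LinearMap.sub_apply, hv, Module.End.one_apply, sub_self]
  have hmain := conj_eq_of_three_fpf_closed hq' hr' hqr ρ' Q hQ x z hx hord hzr hxz hzQ
    (hfree' x hfx) (hfree' z hfz) a b ha hb (hfree' _ hfa)
  intro g hg
  apply LinearMap.baseChangeHom_injective F W K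
  exact hmain g hg

end field

end Cfsg.Agent.Lib.HallHigman.TwoMissing
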